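import Groth.Agent.PtDefo.K819.SectLift
import Groth.Agent.Flat2D.ThickTop
import Groth.Agent.PicF.K247.RelDim
import Groth.Agent.RefCh.K939.IntNumBC
import Groth.Agent.S2501
import Groth.Agent.Curves.K327.GenusOneH0
import Groth.Prelude.Def_Curve

/-!
# The family of genus one curves given by a deformation over a local Artinian algebra
-/

set_option autoImplicit false

universe u

open CategoryTheory CategoryTheory.Limits AlgebraicGeometry ArtFun ArtFun.Art

namespace K752.FibArt

open Groth.Agent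

variable {k : Type u} [Field k] {X : Scheme.{u}} {x : X ⟶ specPt k} {A : Art k k}

/-- maps to reduced rings kill the maximal ideal -/
theorem exists_factor (A : Art k k) (K : CommRingCat.{u}) [_root_.IsReduced K] (y : Spec K ⟶ spec A) :
    ∃ φ : Spec K ⟶ specPt k, φ ≫ specRes A = y := by
  obtain ⟨ψ, rfl⟩ : ∃ ψ : CommRingCat.of A ⟶ K, y = Spec.map ψ := ⟨Spec.preimage y, (Spec.map_preimage y).symm⟩
  have hker : RingHom.ker A.res.toRingHom ≤ RingHom.ker ψ.hom := by
    intro a ha
    have ha' : a ∈ IsLocalRing.maximalIdeal A := (Art.mem_maximalIdeal_iff A a).2 ha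
    obtain ⟨n, hn⟩ := K565.ArtTools.isNilpotent_maximalIdeal A
    have h1 : a ^ n = 0 := by
      have h2 := Ideal.pow_mem_pow ha' n
      rw [hn] at h2
      exact h2
    rw [RingHom.mem_ker]
    exact (IsNilpotent.map (⟨n, h1⟩ : IsNilpotent a) ψ.hom).eq_zero
  let φ : k →+* K := RingHom.liftOfSurjective A.res.toRingHom A.res_surjective ⟨ψ.hom, hker⟩
  refine ⟨Spec.map (CommRingCat.ofHom φ), ?_⟩
  rw [← Spec.map_comp]
  congr 1
  ext a
  rw [CommRingCat.hom_comp, RingHom.comp_apply]
  exact RingHom.liftOfRightInverse_comp_apply A.res.toRingHom _ _ ⟨ψ.hom, hker⟩ a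

theorem fiber_sq (ξ : ArtFun.DefSch (Λ := k) X x A) {T P : Scheme.{u}} {y : T ⟶ spec A} {a : P ⟶ ξ.total} {b : P ⟶ T}
    (hP : IsPullback a b ξ.f y) (φ : T ⟶ specPt k) (hφ : φ ≫ specRes A = y) :
    ∃ g : P ⟶ X, g ≫ ξ.i = a ∧ IsPullback g b x φ := by
  subst hφ
  refine ⟨ξ.isPullback.lift a (b ≫ φ) (by rw [hP.w, Category.assoc]), ξ.isPullback.lift_fst _ _ _, ?_⟩
  exact IsPullback.of_right (by rw [ξ.isPullback.lift_fst]; exact hP) (ξ.isPullback.lift_snd _ _ _) ξ.isPullback

theorem geomConn [IsAlgClosed k] [ConnectedSpace X] (ξ : ArtFun.DefSch (Λ := k) X x A) : GeometricallyConnected ξ.f := by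
  have h1 : GeometricallyConnected x := S2501.result x
  constructor
  intro K _ y P a b hP
  obtain ⟨φ, hφ⟩ := exists_factor A (CommRingCat.of K) y
  obtain ⟨g, -, hg⟩ := fiber_sq ξ hP φ hφ
  exact GeometricallyConnected.geometrically_connectedSpace (f := x) _ _ _ hg

theorem isProper_f [IsProper x] (ξ : ArtFun.DefSch (Λ := k) X x A) [Smooth x] : IsProper ξ.f := by
  have := K819.SectLift.smooth_f ξ
  have h1 : IsClosedImmersion (specRes A) := IsClosedImmersion.spec_of_surjective _ A.res_surjective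
  have h2 : Surjective (specRes A) := by
    constructor
    intro z
    obtain ⟨φ, hφ⟩ := exists_factor A ((spec A).residueField z) ((spec A).fromSpecResidueField z)
    have h3 : z ∈ Set.range ((spec A).fromSpecResidueField z) := by
      rw [Scheme.range_fromSpecResidueField]
      rfl
    obtain ⟨w, hw⟩ := h3
    refine ⟨φ w, ?_⟩
    rw [← hφ] at hw
    simpa using hw
  exact Flat2D.ThickTop.isProper ξ.isPullback

theorem smooth_relDim [IsAlgClosed k] [IsIntegral X] [Smooth x] (hd : topologicalKrullDim X = 1)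
    (ξ : ArtFun.DefSch (Λ := k) X x A) : SmoothOfRelativeDimension 1 ξ.f := by
  have := K819.SectLift.smooth_f ξ
  have h1 : SmoothOfRelativeDimension 1 x := Picfga.CurveRelDim.smoothOfRelativeDimension_of_topologicalKrullDim_eq k
    X x 1 (by simpa using hd)
  refine K247.RelDim.smoothOfRelDim ξ.f 1 fun s => ?_
  obtain ⟨φ, hφ⟩ := exists_factor A ((spec A).residueField s) ((spec A).fromSpecResidueField s)
  obtain ⟨g, -, hg⟩ := fiber_sq ξ (IsPullback.of_hasPullback ξ.f ((spec A).fromSpecResidueField s)) φ hφ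
  have := smoothOfRelativeDimension_isStableUnderBaseChange 1
  exact MorphismProperty.of_isPullback (P := @SmoothOfRelativeDimension 1) hg h1

theorem eulerChar_fiber [X.Over (Spec (CommRingCat.of k))] [IsIntegral X] [IsProper (X ↘ Spec (CommRingCat.of k))]
    (hg : Curv2.genus k X = 1) (ξ : ArtFun.DefSch (Λ := k) X (X ↘ Spec (CommRingCat.of k)) A) (s : spec A) :
    @FGA.eulerCharLE ((spec A).residueField s) _ (ξ.f.fiber s) (ξ.f.fiberOverSpecResidueField s)
      (Coh.structureModule (ξ.f.fiber s)) 1 = 0 := by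
  obtain ⟨φ, hφ⟩ := exists_factor A ((spec A).residueField s) ((spec A).fromSpecResidueField s)
  obtain ⟨g, -, hpb⟩ := fiber_sq ξ (IsPullback.of_hasPullback ξ.f ((spec A).fromSpecResidueField s)) φ hφ
  have hcs : CompactSpace X := QuasiCompact.compactSpace_of_compactSpace (X ↘ Spec (CommRingCat.of k))
  have hqs : QuasiSeparatedSpace X := quasiSeparatedSpace_of_quasiSeparated (X ↘ Spec (CommRingCat.of k))
  have h1 := @K939.IntNumBC.eulerCharLE_pullback k _ X _ _ _ ((spec A).residueField s) _ (ξ.f.fiber s)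
    (ξ.f.fiberOverSpecResidueField s) g φ hpb (Coh.structureModule X) (Fdesc.StructMod.isQCoh_structureModule X) 1
  have h2 := @K939.IntNumBC.eulerCharLE_congr ((spec A).residueField s) _ (ξ.f.fiber s)
    (ξ.f.fiberOverSpecResidueField s) _ _ (K939.FlatDual.unitIso g) 1
  refine h2.symm.trans (h1.trans ?_)
  have h3 := Curves.K327.GenusOneH0.finrank_h0_eq_one k X hg
  have h4 : Module.finrank k (Coh.HH X (Coh.structureModule X) 1) = 1 := hg
  unfold FGA.eulerCharLE
  simp [Finset.sum_range_succ, h3, h4]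

end K752.FibArt
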