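import Mathlib

/-!
# Translations of group schemes given with a unit section
-/

set_option autoImplicit false

universe u

open CategoryTheory CategoryTheory.Limits AlgebraicGeometry MonoidalCategory CartesianMonoidalCategory

open scoped CategoryTheory.MonObj

namespace K752.Translate

variable {S E X : Scheme.{u}} (f : E ⟶ S)

/-- the constant point through a section -/
noncomputable def cst (s : S ⟶ E) (hs : s ≫ f = 𝟙 S) (T : Over S) : T ⟶ Over.mk f :=
  Over.homMk (T.hom ≫ s) (by simp [hs])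

@[simp] lemma cst_left (s : S ⟶ E) (hs : s ≫ f = 𝟙 S) (T : Over S) : (cst f s hs T).left = T.hom ≫ s := rfl

lemma comp_cst (s : S ⟶ E) (hs : s ≫ f = 𝟙 S) {T T' : Over S} (g : T' ⟶ T) : g ≫ cst f s hs T = cst f s hs T' := by
  ext
  simp

/-- If the section `s` is the unit, the translation by the section `t` carries `s` to `t` and does not move
anything over which `s` and `t` agree. -/
theorem exists_translation [GrpObj (Over.mk f)] (s t : S ⟶ E) (hs : s ≫ f = 𝟙 S) (ht : t ≫ f = 𝟙 S)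
    (h1 : ∀ T : Over S, cst f s hs T = 1) (i : X ⟶ E) (hi : (i ≫ f) ≫ s = (i ≫ f) ≫ t) :
    ∃ τ : E ≅ E, τ.hom ≫ f = f ∧ s ≫ τ.hom = t ∧ i ≫ τ.hom = i := by
  let a : Over.mk f ⟶ Over.mk f := cst f t ht (Over.mk f) * 𝟙 _
  let b : Over.mk f ⟶ Over.mk f := (cst f t ht (Over.mk f))⁻¹ * 𝟙 _
  have hcomp : ∀ {T : Over S} (g : T ⟶ Over.mk f), g ≫ a = cst f t ht T * g := by
    intro T g
    change g ≫ (cst f t ht (Over.mk f) * 𝟙 _) = _
    rw [MonObj.comp_mul, comp_cst, Category.comp_id]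
  have hcompb : ∀ {T : Over S} (g : T ⟶ Over.mk f), g ≫ b = (cst f t ht T)⁻¹ * g := by
    intro T g
    change g ≫ ((cst f t ht (Over.mk f))⁻¹ * 𝟙 _) = _
    rw [MonObj.comp_mul, GrpObj.comp_inv, comp_cst, Category.comp_id]
  have hab : a ≫ b = 𝟙 _ := by
    rw [hcompb]
    change _ * (cst f t ht (Over.mk f) * 𝟙 _) = _
    rw [inv_mul_cancel_left]
  have hba : b ≫ a = 𝟙 _ := by
    rw [hcomp]
    change _ * ((cst f t ht (Over.mk f))⁻¹ * 𝟙 _) = _
    rw [mul_inv_cancel_left]
  let e : Over.mk f ≅ Over.mk f := ⟨a, b, hab, hba⟩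
  refine ⟨(Over.forget S).mapIso e, ?_, ?_, ?_⟩
  · exact Over.w a
  · have h := hcomp (cst f s hs (Over.mk (𝟙 S)))
    rw [h1, _root_.mul_one] at h
    have h2 := congrArg (fun q => q.left) h
    have h3 : (cst f s hs (Over.mk (𝟙 S))).left ≫ a.left = (cst f t ht (Over.mk (𝟙 S))).left := by
      rw [h1]
      exact h2
    simpa using h3
  · let i' : Over.mk (i ≫ f) ⟶ Over.mk f := Over.homMk i rfl
    have h := hcomp i'
    have h4 : cst f t ht (Over.mk (i ≫ f)) = cst f s hs (Over.mk (i ≫ f)) := by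
      ext
      simp only [cst_left, Over.mk_hom]
      exact hi.symm
    rw [h4, h1, _root_.one_mul] at h
    exact congrArg (fun q => q.left) h

end K752.Translate
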