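import Groth.Agent.PtDefo.K752.Translate
import Groth.Agent.Ega2.TensMon
import Groth.Agent.RefCh.K939.FlatDual
import Groth.Agent.PicF.K246.Basic
import Groth.Prelude.Def_Pic

/-!
# The section used to normalise the group law of an elliptic curve is the unit
-/

set_option autoImplicit false

universe u

open CategoryTheory CategoryTheory.Limits AlgebraicGeometry MonObj

namespace K752.Translate

open Groth.Agent Groth.Agent.Ega2

variable {S E : Scheme.{u}} (f : E ⟶ S)

theorem cst_eq_one (σ : S ⟶ E) (hσ : σ ≫ f = 𝟙 S) (g : GrpObj (Over.mk f))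
    (hg : ∀ (T : Over S) (P Q R : T ⟶ Over.mk f),
      P * Q = R ↔ ∃ M : T.left.Modules, PicF.IsInvertible M ∧
        Nonempty (CohB1.tensorMod
            (ClSub.idealMod (pullback.lift P.left (𝟙 T.left)
              ((Over.w P).trans (Category.id_comp T.hom).symm) : T.left ⟶ PicF.XT f T).ker)
            (ClSub.idealMod (pullback.lift Q.left (𝟙 T.left)
              ((Over.w Q).trans (Category.id_comp T.hom).symm) : T.left ⟶ PicF.XT f T).ker) ≅
          CohB1.tensorMod (CohB1.tensorMod
            (ClSub.idealMod (pullback.lift R.left (𝟙 T.left)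
              ((Over.w R).trans (Category.id_comp T.hom).symm) : T.left ⟶ PicF.XT f T).ker)
            (ClSub.idealMod (PicF.secT f σ hσ T).ker))
            ((Scheme.Modules.pullback (PicF.XTproj f T)).obj M))) (T : Over S) :
    cst f σ hσ T = 1 := by
  have h1 : cst f σ hσ T * cst f σ hσ T = cst f σ hσ T := by
    refine (hg T (cst f σ hσ T) (cst f σ hσ T) (cst f σ hσ T)).2 ⟨Coh.structureModule T.left,
      K246.Basic.isInvertible_structureModule _, ⟨?_⟩⟩
    exact (Tens.runit _).symm ≪≫ Tens.mapTIso (Iso.refl _) (K939.FlatDual.unitIso (PicF.XTproj f T)).symm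
  exact mul_eq_left.1 h1

end K752.Translate
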